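import Cfsg.Agent.H776.Co.FusDef
import Mathlib.Tactic.Group
import Mathlib.Tactic.LinearCombination

/-!
Elementary facts on the model group.
-/

set_option autoImplicit false
set_option linter.style.longLine false

namespace Cfsg.Agent.H776.Co

open Subgroup P

theorem A_comm {x y : P} (hx : x ∈ A) (hy : y ∈ A) : x * y = y * x := by
  obtain ⟨h1, h2, h3⟩ := hx
  obtain ⟨h4, h5, h6⟩ := hy
  ext <;> simp [h1, h2, h3, h4, h5, h6, add_comm]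

theorem conj_a (g x : P) : (g * x * g⁻¹).a = x.a := by simp

theorem conj_b (g x : P) : (g * x * g⁻¹).b = x.b := by simp

theorem conj_m33 (g x : P) : (g * x * g⁻¹).m33 = x.m33 := by simp

theorem A_conj {x : P} (hx : x ∈ A) (g : P) : g * x * g⁻¹ ∈ A := by
  obtain ⟨h1, h2, h3⟩ := hx
  refine ⟨by rw [conj_a, h1], by rw [conj_b, h2], ?_⟩
  simp [h1, h2, h3]

theorem A_cube {x : P} (hx : x ∈ A) : x ^ 3 = 1 := by
  obtain ⟨h1, h2, h3⟩ := hx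
  have h : ∀ y : ZMod 3, y + y + y = 0 := by decide
  rw [pow_succ, pow_two]
  ext <;> simp [h1, h2, h3, h]

theorem W5_le_A : W5 ≤ A := fun _ hx => ⟨hx.1, hx.2.1, hx.2.2.1⟩
theorem W3_le_W5 : W3 ≤ W5 := fun _ hx => ⟨hx.1, hx.2.1, hx.2.2.1, hx.2.2.2.2.2⟩
theorem W1_le_W3 : W1 ≤ W3 := fun _ hx => ⟨hx.1, hx.2.1, hx.2.2.1, hx.2.2.2.2.2.1, hx.2.2.2.2.2.2.1, hx.2.2.2.2.2.2.2⟩
theorem W5_le_R3 : W5 ≤ R3 := fun _ hx => hx.2.2.2
theorem W3_le_A : W3 ≤ A := W3_le_W5.trans W5_le_A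
theorem W1_le_A : W1 ≤ A := W1_le_W3.trans W3_le_A
theorem W3_le_R3 : W3 ≤ R3 := W3_le_W5.trans W5_le_R3
theorem W1_le_R3 : W1 ≤ R3 := W1_le_W3.trans W3_le_R3

theorem xa_mul (a b : ZMod 3) : xa a * xa b = xa (a + b) := by
  ext <;> simp [xa]

theorem xa_zero : xa 0 = 1 := rfl

theorem xa_mem {Q : Subgroup P} (h : xa 1 ∈ Q) (a : ZMod 3) : xa a ∈ Q := by
  have h2 : xa 2 ∈ Q := by
    have := mul_mem h h
    rw [xa_mul] at this
    exact this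
  have : ∀ a : ZMod 3, a = 0 ∨ a = 1 ∨ a = 2 := by decide
  rcases this a with rfl | rfl | rfl
  · rw [xa_zero]; exact one_mem Q
  · exact h
  · exact h2

/-- `Q_L = W5 · DD i` -/
theorem mem_of_QL {Q : Subgroup P} {i : ZMod 3} (h1 : W5 ≤ Q) (h2 : DD i ≤ Q) {x : P} (ha : x.a = 0) (hm : x.m33 = 0) : x ∈ Q := by
  have h3 : (⟨0, x.b, x.c, 0, 0, 0, i * x.c, i * x.b, 0⟩ : P) ∈ Q := h2 ⟨rfl, rfl, rfl, rfl⟩
  have h4 : x * (⟨0, x.b, x.c, 0, 0, 0, i * x.c, i * x.b, 0⟩ : P)⁻¹ ∈ Q := by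
    apply h1
    refine ⟨by simp [ha], by simp, by simp [ha], by simp [hm]⟩
  simpa using mul_mem h4 h3

/-- subgroups containing `Q_L` are normal -/
theorem normal_of_QL {Q : Subgroup P} (h : ∀ x : P, x.a = 0 → x.m33 = 0 → x ∈ Q) (n : P) {q : P} (hq : q ∈ Q) : n * q * n⁻¹ ∈ Q := by
  have h1 : n * q * n⁻¹ * q⁻¹ ∈ Q := h _ (by simp) (by simp)
  simpa using mul_mem h1 hq

theorem DD_xa {i : ZMod 3} {x : P} (hx : x ∈ DD i) : xa 1 * x * (xa 1)⁻¹ ∈ DD i := by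
  obtain ⟨h1, h2, h3, h4⟩ := hx
  refine ⟨by simp [h1], by simp [h2], ?_, ?_⟩
  · simp [xa, h1, h2, h3, h4]; ring
  · simp [xa, h2, h4]

theorem DD_comm {i : ZMod 3} {x y : P} (hx : x ∈ DD i) (hy : y ∈ DD i) : x * y = y * x := by
  obtain ⟨h1, h2, h3, h4⟩ := hx
  obtain ⟨h5, h6, h7, h8⟩ := hy
  ext <;> simp [h1, h2, h3, h4, h5, h6, h7, h8] <;> ring

theorem R3_le {Q : Subgroup P} (h : ∀ x : P, x.a = 0 → x.m33 = 0 → x ∈ Q) (hx : xa 1 ∈ Q) : R3 ≤ Q := by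
  intro x hx3
  have h3 : x.m33 = 0 := hx3
  have h1 : (xa x.a)⁻¹ * x ∈ Q := h _ (by simp [xa]) (by simp [xa, h3])
  have := mul_mem (xa_mem hx x.a) h1
  simpa using this

theorem m33_mul_inv (x y : P) : (x * y⁻¹).m33 = x.m33 - y.m33 := by simp [sub_eq_add_neg]

/-- `R3` is a maximal subgroup not containing `A` -/
theorem eq_R3 {Q : Subgroup P} (h : R3 ≤ Q) (hA : ¬ A ≤ Q) : Q = R3 := by
  apply le_antisymm _ h
  intro y hy
  by_contra hc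
  have hy3 : y.m33 ≠ 0 := hc
  apply hA
  intro x _
  have h1 : ∀ u v : ZMod 3, v ≠ 0 → u = 0 ∨ u - v = 0 ∨ u + v = 0 := by decide
  rcases h1 x.m33 y.m33 hy3 with h2 | h2 | h2
  · exact h h2
  · have h3 : x * y⁻¹ ∈ Q := h (by show (x * y⁻¹).m33 = 0; rw [m33_mul_inv, h2])
    simpa using mul_mem h3 hy
  · have h3 : x * y ∈ Q := h (by show (x * y).m33 = 0; rw [mul_m33, h2])
    have := mul_mem h3 (inv_mem hy)
    simpa using this

end Cfsg.Agent.H776.Co
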