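import Cfsg.Agent.H776.Co.Lin

/-! A word in `T`, `w1f`, `w2f 2` equal to `-1`. -/

set_option autoImplicit false
set_option linter.style.longLine false

namespace Cfsg.Agent.H776.Co.Lin

theorem word_neg0 : ∀ b c d e f : ZMod 3, w1f (w2f 2 (w1f (w2f 2 (tf 0 1 0 (w2f 2 (w1f (w2f 2 (w1f (w2f 2 (w1f (tf 0 1 0
    (w2f 2 (w1f (w2f 2 (w1f (tf 1 0 0 ![0, b, c, d, e, f])))))))))))))))) = -![0, b, c, d, e, f] := by
  decide +kernel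

theorem word_neg1 : ∀ b c d e f : ZMod 3, w1f (w2f 2 (w1f (w2f 2 (tf 0 1 0 (w2f 2 (w1f (w2f 2 (w1f (w2f 2 (w1f (tf 0 1 0
    (w2f 2 (w1f (w2f 2 (w1f (tf 1 0 0 ![1, b, c, d, e, f])))))))))))))))) = -![1, b, c, d, e, f] := by
  decide +kernel

theorem word_neg2 : ∀ b c d e f : ZMod 3, w1f (w2f 2 (w1f (w2f 2 (tf 0 1 0 (w2f 2 (w1f (w2f 2 (w1f (w2f 2 (w1f (tf 0 1 0
    (w2f 2 (w1f (w2f 2 (w1f (tf 1 0 0 ![2, b, c, d, e, f])))))))))))))))) = -![2, b, c, d, e, f] := by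
  decide +kernel

theorem word_neg : ∀ a b c d e f : ZMod 3, w1f (w2f 2 (w1f (w2f 2 (tf 0 1 0 (w2f 2 (w1f (w2f 2 (w1f (w2f 2 (w1f (tf 0 1 0
    (w2f 2 (w1f (w2f 2 (w1f (tf 1 0 0 ![a, b, c, d, e, f])))))))))))))))) = -![a, b, c, d, e, f] := by
  intro a
  have h : a = 0 ∨ a = 1 ∨ a = 2 := by revert a; decide
  rcases h with rfl | rfl | rfl
  · exact word_neg0
  · exact word_neg1
  · exact word_neg2

theorem tl_mem_T (a b c : ZMod 3) : tl a b c ∈ T := ⟨a, b, c, rfl⟩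

theorem neg_mem {G : Subgroup L} (hT : T ≤ G) (h1 : ∃ g ∈ G, ∀ v, g v = w1f v) (h2 : ∃ g ∈ G, ∀ v, g v = w2f 2 v) :
    ∃ g ∈ G, ∀ v, g v = -v := by
  obtain ⟨x, hx, h1⟩ := h1
  obtain ⟨y, hy, h2⟩ := h2
  have ha : tl 1 0 0 ∈ G := hT (tl_mem_T _ _ _)
  have hb : tl 0 1 0 ∈ G := hT (tl_mem_T _ _ _)
  refine ⟨x * y * x * y * tl 0 1 0 * y * x * y * x * y * x * tl 0 1 0 * y * x * y * x * tl 1 0 0, ?_, fun v => ?_⟩
  · exact mul_mem (mul_mem (mul_mem (mul_mem (mul_mem (mul_mem (mul_mem (mul_mem (mul_mem (mul_mem (mul_mem (mul_mem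
      (mul_mem (mul_mem (mul_mem (mul_mem hx hy) hx) hy) hb) hy) hx) hy) hx) hy) hx) hb) hy) hx) hy) hx) ha
  · have h3 := word_neg (v 0) (v 1) (v 2) (v 3) (v 4) (v 5)
    have h4 : ![v 0, v 1, v 2, v 3, v 4, v 5] = v := by
      funext i
      fin_cases i <;> rfl
    rw [h4] at h3
    simp only [LinearEquiv.mul_apply, h1, h2, tl_apply]
    exact h3

end Cfsg.Agent.H776.Co.Lin
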