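import Cfsg.Agent.H776.Co.Maps
import Mathlib.LinearAlgebra.GeneralLinearGroup.Basic
import Mathlib.GroupTheory.Index
import Mathlib.Data.Fin.VecNotation
import Mathlib.Tactic.FinCases

/-!
The linear side: `V = F₃⁶` (coordinates `m11 m12 m22 m13 m23 m33`), the group `T = 3^{1+2}` acting on it.
-/

set_option autoImplicit false
set_option linter.style.longLine false

namespace Cfsg.Agent.H776.Co.Lin

/-- the module `A` written additively -/
abbrev V := Fin 6 → ZMod 3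

/-- its linear group -/
abbrev L := V ≃ₗ[ZMod 3] V

/-- the action of `t(a,b,c)` -/
def tf (a b c : ZMod 3) (v : V) : V :=
  ![v 0 + 2 * a * v 1 + 2 * c * v 3 + a ^ 2 * v 2 + 2 * a * c * v 4 + c ^ 2 * v 5,
    v 1 + a * v 2 + c * v 4 + b * (v 3 + a * v 4 + c * v 5),
    v 2 + 2 * b * v 4 + b ^ 2 * v 5,
    v 3 + a * v 4 + c * v 5,
    v 4 + b * v 5,
    v 5]

theorem tf_tf (a b c a' b' c' : ZMod 3) (v : V) : tf a b c (tf a' b' c' v) = tf (a + a') (b + b') (c + c' + a * b') v := by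
  funext i
  fin_cases i <;> simp [tf] <;> ring

theorem tf_zero (v : V) : tf 0 0 0 v = v := by
  funext i
  fin_cases i <;> simp [tf]

/-- `t(a,b,c)` as a linear equivalence -/
def tl (a b c : ZMod 3) : L where
  toFun := tf a b c
  map_add' u v := by
    funext i
    fin_cases i <;> simp [tf] <;> ring
  map_smul' r v := by
    funext i
    fin_cases i <;> simp [tf] <;> ring
  invFun := tf (-a) (-b) (-c + a * b)
  left_inv v := by
    rw [tf_tf]
    have : tf (-a + a) (-b + b) (-c + a * b + c + -a * b) v = tf 0 0 0 v := by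
      congr 1 <;> ring
    rw [this, tf_zero]
  right_inv v := by
    rw [tf_tf]
    have : tf (a + -a) (b + -b) (c + (-c + a * b) + a * -b) v = tf 0 0 0 v := by
      congr 1 <;> ring
    rw [this, tf_zero]

@[simp] theorem tl_apply (a b c : ZMod 3) (v : V) : tl a b c v = tf a b c v := rfl

theorem tl_mul (a b c a' b' c' : ZMod 3) : tl a b c * tl a' b' c' = tl (a + a') (b + b') (c + c' + a * b') :=
  LinearEquiv.ext fun v => tf_tf a b c a' b' c' v

theorem tl_one : tl 0 0 0 = 1 := LinearEquiv.ext tf_zero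

theorem tl_inv (a b c : ZMod 3) : (tl a b c)⁻¹ = tl (-a) (-b) (-c + a * b) := by
  rw [inv_eq_iff_mul_eq_one, tl_mul, ← tl_one]
  congr 1 <;> ring

/-- the Sylow subgroup `T = 3^{1+2}` -/
def T : Subgroup L where
  carrier := {g | ∃ a b c, g = tl a b c}
  mul_mem' := by
    rintro _ _ ⟨a, b, c, rfl⟩ ⟨a', b', c', rfl⟩
    exact ⟨_, _, _, tl_mul a b c a' b' c'⟩
  one_mem' := ⟨0, 0, 0, tl_one.symm⟩
  inv_mem' := by
    rintro _ ⟨a, b, c, rfl⟩
    exact ⟨_, _, _, tl_inv a b c⟩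

/-- `U1`: `a = 0` -/
def U1 : Subgroup L where
  carrier := {g | ∃ b c, g = tl 0 b c}
  mul_mem' := by
    rintro _ _ ⟨b, c, rfl⟩ ⟨b', c', rfl⟩
    exact ⟨_, _, by rw [tl_mul, add_zero]⟩
  one_mem' := ⟨0, 0, tl_one.symm⟩
  inv_mem' := by
    rintro _ ⟨b, c, rfl⟩
    exact ⟨_, _, by rw [tl_inv, neg_zero]⟩

/-- `U2`: `b = 0` -/
def U2 : Subgroup L where
  carrier := {g | ∃ a c, g = tl a 0 c}
  mul_mem' := by
    rintro _ _ ⟨a, c, rfl⟩ ⟨a', c', rfl⟩
    exact ⟨_, _, by rw [tl_mul, add_zero]⟩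
  one_mem' := ⟨0, 0, tl_one.symm⟩
  inv_mem' := by
    rintro _ ⟨a, c, rfl⟩
    exact ⟨_, _, by rw [tl_inv, neg_zero]⟩

/-- signs (the torus) -/
def sf (e1 e2 e3 : ZMod 3) (v : V) : V :=
  ![e3 * v 0, e1 * e3 * v 1, e3 * v 2, e1 * e2 * e3 * v 3, e2 * e3 * v 4, e3 * v 5]

/-- `g` is one of the eight sign matrices of the torus -/
def IsSign (g : L) : Prop := ∃ e1 e2 e3 : ZMod 3, e1 ^ 2 = 1 ∧ e2 ^ 2 = 1 ∧ e3 ^ 2 = 1 ∧ ∀ v, g v = sf e1 e2 e3 v

/-- Weyl element of `N(U1)` -/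
def w1f (v : V) : V := ![v 2, -v 1, v 0, -v 4, v 3, v 5]
/-- Weyl element of `N(U2)` with parameter `k` -/
def w2f (k : ZMod 3) (v : V) : V := ![v 0 + k * (v 2 - v 5), -v 3, v 5, v 1, -v 4, v 2]
/-- `x33 ↦ x33 z^k` -/
def df (k : ZMod 3) (v : V) : V := ![v 0 + k * v 5, v 1, v 2, v 3, v 4, v 5]
/-- `W1`, `W3` inside `V` -/
def inW1 (v : V) : Prop := v 1 = 0 ∧ v 2 = 0 ∧ v 3 = 0 ∧ v 4 = 0 ∧ v 5 = 0
/-- `W3` -/
def inW3 (v : V) : Prop := v 3 = 0 ∧ v 4 = 0 ∧ v 5 = 0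

/-- `G` is a linear group with Sylow 3-subgroup `T` -/
structure Syl (G : Subgroup L) : Prop where
  le : T ≤ G
  idx : ¬ 3 ∣ T.relIndex G

end Cfsg.Agent.H776.Co.Lin
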