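import Cfsg.Agent.H776.Co.Model
import Mathlib.Tactic.ReduceModChar

/-!
Explicit automorphisms of `P` and of `R1`, `R2`, `R3`.
-/

set_option autoImplicit false
set_option linter.style.longLine false

namespace Cfsg.Agent.H776.Co

open P

/-- torus: `x12 ↦ x12^e1`, `x23 ↦ x23^e2`, `x33 ↦ x33^e3` (for signs `e_i`) -/
def tor (e1 e2 e3 : ZMod 3) (p : P) : P :=
  ⟨e1 * p.a, e2 * p.b, e1 * e2 * p.c, e3 * p.m11, e1 * e3 * p.m12, e3 * p.m22, e1 * e2 * e3 * p.m13, e2 * e3 * p.m23, e3 * p.m33⟩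

theorem tor_mul {e1 e2 e3 : ZMod 3} (h1 : e1 ^ 2 = 1) (h2 : e2 ^ 2 = 1) (x y : P) :
    tor e1 e2 e3 (x * y) = tor e1 e2 e3 x * tor e1 e2 e3 y := by
  ext
  · simp only [tor, mul_a]; ring
  · simp only [tor, mul_b]; ring
  · simp only [tor, mul_c]; ring
  · simp only [tor, mul_m11]
    linear_combination (-e3 * 2 * x.a * y.m12 - e3 * x.a ^ 2 * y.m22 - e3 * 2 * x.c * y.m13 * e2 ^ 2 - e3 * 2 * x.a * x.c * y.m23 * e2 ^ 2 - e3 * x.c ^ 2 * y.m33 * e2 ^ 2) * h1 + (-e3 * 2 * x.c * y.m13 - e3 * 2 * x.a * x.c * y.m23 - e3 * x.c ^ 2 * y.m33) * h2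
  · simp only [tor, mul_m12]
    linear_combination (- e1 * e3 * x.c * y.m23 - e1 * e3 * x.b * (y.m13 + x.a * y.m23 + x.c * y.m33)) * h2
  · simp only [tor, mul_m22]
    linear_combination (-e3 * 2 * x.b * y.m23 - e3 * x.b ^ 2 * y.m33) * h2
  · simp only [tor, mul_m13]; ring
  · simp only [tor, mul_m23]; ring
  · simp only [tor, mul_m33]; ring

/-- the central automorphism `x33 ↦ x33 z^k` -/
def del (k : ZMod 3) (p : P) : P := ⟨p.a, p.b, p.c, p.m11 + k * p.m33, p.m12, p.m22, p.m13, p.m23, p.m33⟩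

theorem del_mul (k : ZMod 3) (x y : P) : del k (x * y) = del k x * del k y := by
  ext <;> simp only [del, mul_a, mul_b, mul_c, mul_m11, mul_m12, mul_m22, mul_m13, mul_m23, mul_m33] <;> ring

/-- the Weyl element of `R1` (rotation of `e1, e2`) -/
def w1 (p : P) : P := ⟨p.a, p.c, -p.b, p.m22, -p.m12, p.m11, -p.m23, p.m13, p.m33⟩

theorem w1_mul {x y : P} (hx : x ∈ R1) (hy : y ∈ R1) : w1 (x * y) = w1 x * w1 y := by
  have h1 : x.a = 0 := hx
  have h2 : y.a = 0 := hy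
  ext <;> simp only [w1, mul_a, mul_b, mul_c, mul_m11, mul_m12, mul_m22, mul_m13, mul_m23, mul_m33, h1, h2] <;> ring

/-- the Weyl element of `R2` (rotation of `e2, e3`), with parameter `k` -/
def w2 (k : ZMod 3) (p : P) : P := ⟨-p.c, p.b, p.a, p.m11 + k * (p.m22 - p.m33), -p.m13, p.m33, p.m12, -p.m23, p.m22⟩

theorem w2_mul (k : ZMod 3) {x y : P} (hx : x ∈ R2) (hy : y ∈ R2) : w2 k (x * y) = w2 k x * w2 k y := by
  have h1 : x.b = 0 := hx
  have h2 : y.b = 0 := hy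
  ext <;> simp only [w2, mul_a, mul_b, mul_c, mul_m11, mul_m12, mul_m22, mul_m13, mul_m23, mul_m33, h1, h2] <;> ring

/-- `x12^a` -/
def xa (a : ZMod 3) : P := ⟨a, 0, 0, 0, 0, 0, 0, 0, 0⟩

/-- the Weyl element on `Q_L` -/
def w3Q (p : P) : P := ⟨0, p.m23, p.m13, p.m11 + p.c * p.m13, p.m12 - (p.c * p.m23 + p.b * p.m13), p.m22 + p.b * p.m23, -p.c, -p.b, 0⟩

/-- the Weyl element of `R3` -/
def w3 (p : P) : P := xa p.a * w3Q ((xa p.a)⁻¹ * p)

theorem w3_mul {x y : P} (hx : x ∈ R3) (hy : y ∈ R3) : w3 (x * y) = w3 x * w3 y := by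
  have h1 : x.m33 = 0 := hx
  have h2 : y.m33 = 0 := hy
  ext <;> simp only [w3, w3Q, xa, mul_a, mul_b, mul_c, mul_m11, mul_m12, mul_m22, mul_m13, mul_m23, mul_m33, inv_a, inv_b, inv_c,
    inv_m11, inv_m12, inv_m22, inv_m13, inv_m23, h1, h2] <;> ring_nf <;> reduce_mod_char <;> ring_nf <;> reduce_mod_char

end Cfsg.Agent.H776.Co
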