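import Mathlib.Data.ZMod.Basic
import Mathlib.Algebra.Group.MinimalAxioms
import Mathlib.Algebra.Field.ZMod
import Mathlib.Tactic.Ring
import Mathlib.Tactic.DeriveFintype
import Mathlib.GroupTheory.PGroup
import Mathlib.Tactic.LinearCombination

/-!
The model `P` of a Sylow 3-subgroup of `Sp₆(3)` (and of `Co₁`): pairs `M · t` with `M` a symmetric 3×3 matrix over
`F₃` (coordinates `m11 m12 m22 m13 m23 m33`) and `t` the unitriangular matrix with entries `a` (position 12),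
`b` (position 23), `c` (position 13), acting by `M ↦ t M tᵀ`.
-/

set_option autoImplicit false
set_option linter.style.longLine false

namespace Cfsg.Agent.H776.Co

/-- the model group: the product `M · t` -/
@[ext] structure P where
  a : ZMod 3
  b : ZMod 3
  c : ZMod 3
  m11 : ZMod 3
  m12 : ZMod 3
  m22 : ZMod 3
  m13 : ZMod 3
  m23 : ZMod 3
  m33 : ZMod 3
deriving DecidableEq

namespace P

/-- multiplication `(M t)(M' t') = (M + t M' tᵀ)(t t')` -/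
def mul (x y : P) : P where
  a := x.a + y.a
  b := x.b + y.b
  c := x.c + y.c + x.a * y.b
  m11 := x.m11 + (y.m11 + 2 * x.a * y.m12 + 2 * x.c * y.m13 + x.a ^ 2 * y.m22 + 2 * x.a * x.c * y.m23 + x.c ^ 2 * y.m33)
  m12 := x.m12 + (y.m12 + x.a * y.m22 + x.c * y.m23 + x.b * (y.m13 + x.a * y.m23 + x.c * y.m33))
  m22 := x.m22 + (y.m22 + 2 * x.b * y.m23 + x.b ^ 2 * y.m33)
  m13 := x.m13 + (y.m13 + x.a * y.m23 + x.c * y.m33)
  m23 := x.m23 + (y.m23 + x.b * y.m33)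
  m33 := x.m33 + y.m33

/-- inverse: `t⁻¹` has entries `-a, -b, -c + a b`, and the matrix is `- t⁻¹ M t⁻ᵀ` -/
def inv (x : P) : P where
  a := -x.a
  b := -x.b
  c := -x.c + x.a * x.b
  m11 := -(x.m11 + 2 * (-x.a) * x.m12 + 2 * (-x.c + x.a * x.b) * x.m13 + (-x.a) ^ 2 * x.m22 + 2 * (-x.a) * (-x.c + x.a * x.b) * x.m23 + (-x.c + x.a * x.b) ^ 2 * x.m33)
  m12 := -(x.m12 + (-x.a) * x.m22 + (-x.c + x.a * x.b) * x.m23 + (-x.b) * (x.m13 + (-x.a) * x.m23 + (-x.c + x.a * x.b) * x.m33))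
  m22 := -(x.m22 + 2 * (-x.b) * x.m23 + (-x.b) ^ 2 * x.m33)
  m13 := -(x.m13 + (-x.a) * x.m23 + (-x.c + x.a * x.b) * x.m33)
  m23 := -(x.m23 + (-x.b) * x.m33)
  m33 := -x.m33

instance : Mul P := ⟨mul⟩
instance : One P := ⟨⟨0, 0, 0, 0, 0, 0, 0, 0, 0⟩⟩
instance : Inv P := ⟨inv⟩

theorem mul_def (x y : P) : x * y = mul x y := rfl
theorem one_def : (1 : P) = ⟨0, 0, 0, 0, 0, 0, 0, 0, 0⟩ := rfl
theorem inv_def (x : P) : x⁻¹ = inv x := rfl

theorem mul_assoc' (x y z : P) : x * y * z = x * (y * z) := by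
  ext <;> simp only [mul_def, mul] <;> ring

theorem one_mul' (x : P) : 1 * x = x := by
  ext <;> simp only [mul_def, mul, one_def] <;> ring

theorem inv_mul_cancel' (x : P) : x⁻¹ * x = 1 := by
  ext <;> simp only [mul_def, mul, one_def, inv_def, inv] <;> ring

instance : Group P := Group.ofLeftAxioms mul_assoc' one_mul' inv_mul_cancel'

@[simp] theorem mul_a (x y : P) : (x * y).a = x.a + y.a := rfl
@[simp] theorem mul_b (x y : P) : (x * y).b = x.b + y.b := rfl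
@[simp] theorem mul_c (x y : P) : (x * y).c = x.c + y.c + x.a * y.b := rfl
@[simp] theorem mul_m11 (x y : P) : (x * y).m11 = x.m11 + (y.m11 + 2 * x.a * y.m12 + 2 * x.c * y.m13 + x.a ^ 2 * y.m22 + 2 * x.a * x.c * y.m23 + x.c ^ 2 * y.m33) := rfl
@[simp] theorem mul_m12 (x y : P) : (x * y).m12 = x.m12 + (y.m12 + x.a * y.m22 + x.c * y.m23 + x.b * (y.m13 + x.a * y.m23 + x.c * y.m33)) := rfl
@[simp] theorem mul_m22 (x y : P) : (x * y).m22 = x.m22 + (y.m22 + 2 * x.b * y.m23 + x.b ^ 2 * y.m33) := rfl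
@[simp] theorem mul_m13 (x y : P) : (x * y).m13 = x.m13 + (y.m13 + x.a * y.m23 + x.c * y.m33) := rfl
@[simp] theorem mul_m23 (x y : P) : (x * y).m23 = x.m23 + (y.m23 + x.b * y.m33) := rfl
@[simp] theorem mul_m33 (x y : P) : (x * y).m33 = x.m33 + y.m33 := rfl
@[simp] theorem one_a : (1 : P).a = 0 := rfl
@[simp] theorem one_b : (1 : P).b = 0 := rfl
@[simp] theorem one_c : (1 : P).c = 0 := rfl
@[simp] theorem one_m11 : (1 : P).m11 = 0 := rfl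
@[simp] theorem one_m12 : (1 : P).m12 = 0 := rfl
@[simp] theorem one_m22 : (1 : P).m22 = 0 := rfl
@[simp] theorem one_m13 : (1 : P).m13 = 0 := rfl
@[simp] theorem one_m23 : (1 : P).m23 = 0 := rfl
@[simp] theorem one_m33 : (1 : P).m33 = 0 := rfl
@[simp] theorem inv_a (x : P) : (x⁻¹).a = -x.a := rfl
@[simp] theorem inv_b (x : P) : (x⁻¹).b = -x.b := rfl
@[simp] theorem inv_c (x : P) : (x⁻¹).c = -x.c + x.a * x.b := rfl
@[simp] theorem inv_m11 (x : P) : (x⁻¹).m11 = -(x.m11 + 2 * (-x.a) * x.m12 + 2 * (-x.c + x.a * x.b) * x.m13 + (-x.a) ^ 2 * x.m22 + 2 * (-x.a) * (-x.c + x.a * x.b) * x.m23 + (-x.c + x.a * x.b) ^ 2 * x.m33) := rfl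
@[simp] theorem inv_m12 (x : P) : (x⁻¹).m12 = -(x.m12 + (-x.a) * x.m22 + (-x.c + x.a * x.b) * x.m23 + (-x.b) * (x.m13 + (-x.a) * x.m23 + (-x.c + x.a * x.b) * x.m33)) := rfl
@[simp] theorem inv_m22 (x : P) : (x⁻¹).m22 = -(x.m22 + 2 * (-x.b) * x.m23 + (-x.b) ^ 2 * x.m33) := rfl
@[simp] theorem inv_m13 (x : P) : (x⁻¹).m13 = -(x.m13 + (-x.a) * x.m23 + (-x.c + x.a * x.b) * x.m33) := rfl
@[simp] theorem inv_m23 (x : P) : (x⁻¹).m23 = -(x.m23 + (-x.b) * x.m33) := rfl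
@[simp] theorem inv_m33 (x : P) : (x⁻¹).m33 = -x.m33 := rfl

/-- coordinates -/
def equivTuple : P ≃ (ZMod 3 × ZMod 3 × ZMod 3 × ZMod 3 × ZMod 3 × ZMod 3 × ZMod 3 × ZMod 3 × ZMod 3) where
  toFun x := (x.a, x.b, x.c, x.m11, x.m12, x.m22, x.m13, x.m23, x.m33)
  invFun t := ⟨t.1, t.2.1, t.2.2.1, t.2.2.2.1, t.2.2.2.2.1, t.2.2.2.2.2.1, t.2.2.2.2.2.2.1, t.2.2.2.2.2.2.2.1, t.2.2.2.2.2.2.2.2⟩
  left_inv _ := rfl
  right_inv _ := rfl

instance : Fintype P := Fintype.ofEquiv _ equivTuple.symm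

theorem card_P : Nat.card P = 3 ^ 9 := by
  rw [Nat.card_congr equivTuple]
  simp only [Nat.card_prod, Nat.card_zmod]
  norm_num

theorem isPGroup_P : IsPGroup 3 P := IsPGroup.of_card card_P

end P

open Subgroup P

/-! ### subgroups -/

/-- `A = 3^6` -/
def A : Subgroup P where
  carrier := {x | x.a = 0 ∧ x.b = 0 ∧ x.c = 0}
  mul_mem' := by
    rintro x y ⟨h1, h2, h3⟩ ⟨h4, h5, h6⟩
    exact ⟨by simp [h1, h4], by simp [h2, h5], by simp [h1, h3, h6]⟩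
  one_mem' := ⟨rfl, rfl, rfl⟩
  inv_mem' := by
    rintro x ⟨h1, h2, h3⟩
    exact ⟨by simp [h1], by simp [h2], by simp [h1, h3]⟩

/-- `W5 = [A, S]` -/
def W5 : Subgroup P where
  carrier := {x | x.a = 0 ∧ x.b = 0 ∧ x.c = 0 ∧ x.m33 = 0}
  mul_mem' := by
    rintro x y ⟨h1, h2, h3, h7⟩ ⟨h4, h5, h6, h8⟩
    exact ⟨by simp [h1, h4], by simp [h2, h5], by simp [h1, h3, h6], by simp [h7, h8]⟩
  one_mem' := ⟨rfl, rfl, rfl, rfl⟩
  inv_mem' := by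
    rintro x ⟨h1, h2, h3, h7⟩
    exact ⟨by simp [h1], by simp [h2], by simp [h1, h3], by simp [h7]⟩

/-- `W3 = Z(Q_L)` -/
def W3 : Subgroup P where
  carrier := {x | x.a = 0 ∧ x.b = 0 ∧ x.c = 0 ∧ x.m13 = 0 ∧ x.m23 = 0 ∧ x.m33 = 0}
  mul_mem' := by
    rintro x y ⟨h1, h2, h3, h7, h9, h11⟩ ⟨h4, h5, h6, h8, h10, h12⟩
    exact ⟨by simp [h1, h4], by simp [h2, h5], by simp [h1, h3, h6], by simp [h1, h3, h7, h8],
      by simp [h2, h9, h10], by simp [h11, h12]⟩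
  one_mem' := ⟨rfl, rfl, rfl, rfl, rfl, rfl⟩
  inv_mem' := by
    rintro x ⟨h1, h2, h3, h7, h9, h11⟩
    exact ⟨by simp [h1], by simp [h2], by simp [h1, h3], by simp [h1, h3, h7, h9], by simp [h2, h9, h11], by simp [h11]⟩

/-- `W1 = Z(S)` -/
def W1 : Subgroup P where
  carrier := {x | x.a = 0 ∧ x.b = 0 ∧ x.c = 0 ∧ x.m12 = 0 ∧ x.m22 = 0 ∧ x.m13 = 0 ∧ x.m23 = 0 ∧ x.m33 = 0}
  mul_mem' := by
    rintro x y ⟨h1, h2, h3, h7, h9, h11, h13, h15⟩ ⟨h4, h5, h6, h8, h10, h12, h14, h16⟩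
    exact ⟨by simp [h1, h4], by simp [h2, h5], by simp [h1, h3, h6], by simp [h1, h2, h3, h7, h8],
      by simp [h2, h9, h10], by simp [h1, h3, h11, h12], by simp [h2, h13, h14], by simp [h15, h16]⟩
  one_mem' := ⟨rfl, rfl, rfl, rfl, rfl, rfl, rfl, rfl⟩
  inv_mem' := by
    rintro x ⟨h1, h2, h3, h7, h9, h11, h13, h15⟩
    exact ⟨by simp [h1], by simp [h2], by simp [h1, h3], by simp [h1, h2, h3, h7, h9],
      by simp [h2, h9, h13], by simp [h1, h3, h11, h13], by simp [h2, h13, h15], by simp [h15]⟩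

/-- `R1 = A U1 = C_S(W3)` (no root group `e1 - e2`) -/
def R1 : Subgroup P where
  carrier := {x | x.a = 0}
  mul_mem' := by
    intro x y (h1 : x.a = 0) (h2 : y.a = 0)
    show x.a + y.a = 0
    rw [h1, h2, add_zero]
  one_mem' := rfl
  inv_mem' := by
    intro x (h1 : x.a = 0)
    show -x.a = 0
    rw [h1, neg_zero]

/-- `R2 = A U2` (no root group `e2 - e3`) -/
def R2 : Subgroup P where
  carrier := {x | x.b = 0}
  mul_mem' := by
    intro x y (h1 : x.b = 0) (h2 : y.b = 0)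
    show x.b + y.b = 0
    rw [h1, h2, add_zero]
  one_mem' := rfl
  inv_mem' := by
    intro x (h1 : x.b = 0)
    show -x.b = 0
    rw [h1, neg_zero]

/-- `R3` (no root group `2 e3`) -/
def R3 : Subgroup P where
  carrier := {x | x.m33 = 0}
  mul_mem' := by
    intro x y (h1 : x.m33 = 0) (h2 : y.m33 = 0)
    show x.m33 + y.m33 = 0
    rw [h1, h2, add_zero]
  one_mem' := rfl
  inv_mem' := by
    intro x (h1 : x.m33 = 0)
    show -x.m33 = 0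
    rw [h1, neg_zero]

/-- the three conjugates `DD i` of `W5` in `Q_L` outside `A` -/
def DD (i : ZMod 3) : Subgroup P where
  carrier := {x | x.a = 0 ∧ x.m33 = 0 ∧ x.m13 = i * x.c ∧ x.m23 = i * x.b}
  mul_mem' := by
    rintro x y ⟨h1, h2, h3, h4⟩ ⟨h5, h6, h7, h8⟩
    exact ⟨by simp [h1, h5], by simp [h2, h6], by simp [h1, h3, h6, h7]; ring, by simp [h4, h6, h8]; ring⟩
  one_mem' := ⟨rfl, rfl, by simp, by simp⟩
  inv_mem' := by
    rintro x ⟨h1, h2, h3, h4⟩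
    exact ⟨by simp [h1], by simp [h2], by simp [h1, h2, h3], by simp [h2, h4]⟩

theorem mem_A {x : P} : x ∈ A ↔ x.a = 0 ∧ x.b = 0 ∧ x.c = 0 := Iff.rfl
theorem mem_W5 {x : P} : x ∈ W5 ↔ x.a = 0 ∧ x.b = 0 ∧ x.c = 0 ∧ x.m33 = 0 := Iff.rfl
theorem mem_W3 {x : P} : x ∈ W3 ↔ x.a = 0 ∧ x.b = 0 ∧ x.c = 0 ∧ x.m13 = 0 ∧ x.m23 = 0 ∧ x.m33 = 0 := Iff.rfl
theorem mem_W1 {x : P} : x ∈ W1 ↔ x.a = 0 ∧ x.b = 0 ∧ x.c = 0 ∧ x.m12 = 0 ∧ x.m22 = 0 ∧ x.m13 = 0 ∧ x.m23 = 0 ∧ x.m33 = 0 := Iff.rfl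
theorem mem_R1 {x : P} : x ∈ R1 ↔ x.a = 0 := Iff.rfl
theorem mem_R2 {x : P} : x ∈ R2 ↔ x.b = 0 := Iff.rfl
theorem mem_R3 {x : P} : x ∈ R3 ↔ x.m33 = 0 := Iff.rfl
theorem mem_DD {i : ZMod 3} {x : P} : x ∈ DD i ↔ x.a = 0 ∧ x.m33 = 0 ∧ x.m13 = i * x.c ∧ x.m23 = i * x.b := Iff.rfl

end Cfsg.Agent.H776.Co
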