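import Cfsg.Agent.H759.FusTransportD
import Cfsg.Agent.H781.Transport

/-!
Transport of realizability along an injective homomorphism of the ambient groups.
-/

set_option autoImplicit false
set_option linter.style.longLine false

universe u v

namespace Cfsg.Agent.H776.Co

open Subgroup Cfsg Cfsg.Agent.H759

theorem isRealizable_push {Ω₁ : Type u} {Ω₂ : Type v} [Group Ω₁] [Group Ω₂] {f : Ω₁ →* Ω₂} {hf : Function.Injective f}
    {T₁ : Subgroup Ω₁} {T₂ : Subgroup Ω₂} {X₁ : FusionSystem T₁} {X₂ : FusionSystem T₂} (h : IsPush hf X₁ X₂)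
    {p : ℕ} (hr : X₁.IsRealizable p) : X₂.IsRealizable p := by
  obtain ⟨rfl, hom⟩ := h
  obtain ⟨G, _, _, ι, ⟨hι, hm⟩, T, hT⟩ := hr
  have hinj : Function.Injective (ι.comp (eqv hf T₁).symm.toMonoidHom) := hι.comp (eqv hf T₁).symm.injective
  refine H781.isRealizable_of_isRealizedBy (ι := ι.comp (eqv hf T₁).symm.toMonoidHom) ⟨hinj, ?_⟩ T ?_
  · intro P' hP' φ' hφ'
    obtain ⟨P, rfl⟩ := exists_eq_map (f := f) (hP'.trans (Subgroup.map_le_range f T₁))
    obtain ⟨φ, rfl⟩ := exists_eq_cb hf φ' fun y => Subgroup.map_le_range f T₁ (hφ' y)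
    have hP : P ≤ T₁ := (map_le_map hf).1 hP'
    have hφ : ∀ x : P, φ x ∈ T₁ := by
      intro x
      have := hφ' (eqv hf P x)
      rwa [cb_eqv, map_mem_map hf] at this
    rw [hom, hm P hP φ hφ]
    have h1 : ∀ x : P, (eqv hf T₁).symm ⟨cb hf φ (eqv hf P x), hφ' _⟩ = ⟨φ x, hφ x⟩ := by
      intro x
      rw [MulEquiv.symm_apply_eq]
      exact Subtype.ext (cb_eqv hf φ x)
    have h2 : ∀ x : P, (eqv hf T₁).symm ⟨(eqv hf P x : P.map f), hP' (eqv hf P x).2⟩ = ⟨x, hP x.2⟩ := by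
      intro x
      rw [MulEquiv.symm_apply_eq]
      exact Subtype.ext rfl
    constructor
    · rintro ⟨g, hg⟩
      refine ⟨g, fun y => ?_⟩
      obtain ⟨x, rfl⟩ := (eqv hf P).surjective y
      show ι ((eqv hf T₁).symm _) = g * ι ((eqv hf T₁).symm _) * g⁻¹
      rw [h1, h2]
      exact hg x
    · rintro ⟨g, hg⟩
      refine ⟨g, fun x => ?_⟩
      have h3 : ι ((eqv hf T₁).symm _) = g * ι ((eqv hf T₁).symm _) * g⁻¹ := hg (eqv hf P x)
      rw [h1, h2] at h3
      exact h3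
  · rw [hT]
    ext y
    constructor
    · rintro ⟨x, rfl⟩
      exact ⟨eqv hf T₁ x, congrArg ι ((eqv hf T₁).symm_apply_apply x)⟩
    · rintro ⟨x, rfl⟩
      exact ⟨(eqv hf T₁).symm x, rfl⟩

end Cfsg.Agent.H776.Co
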